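import Cfsg.Agent.Spor.U43M.D

set_option autoImplicit false
set_option maxRecDepth 100000000
set_option Elab.async false

namespace Cfsg.Agent.Spor.U43M

theorem gensOk : A.gensOk TT 6 = true := by decide +kernel

theorem detOk : A.detOk TT UU UW 6 = true := by decide +kernel

theorem uniOk : band (digOk A.p A.B 2 256) (allN (fun j => A.ctT 256 (nth A.idT TT (2 * j)) (nth A.idT TT (2 * j + 1))) 6) = true := by decide +kernel

theorem r1 : A.isS TT [0, 0] = true := by decide +kernel

theorem r2 : A.isS TT [2, 2] = true := by decide +kernel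

theorem r3 : A.isS TT [4, 4] = true := by decide +kernel

theorem r4 : A.isS TT [6, 6] = true := by decide +kernel

theorem r5 : A.isS TT [8, 8] = true := by decide +kernel

theorem r6 : A.isS TT [10, 10] = true := by decide +kernel

theorem r7 : A.isS TT [8, 4, 8, 6, 4, 2, 4, 6, 4, 2] = true := by decide +kernel

theorem r8 : A.isS TT [6, 4, 6, 4, 6, 4] = true := by decide +kernel

theorem r9 : A.isS TT [6, 8, 4, 8, 6, 2, 4, 6, 4, 2] = true := by decide +kernel

theorem r10 : A.isS TT [8, 6, 2, 8, 2, 6, 4, 8, 4, 2] = true := by decide +kernel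

theorem r11 : A.isS TT [6, 8, 2, 6, 8, 6, 2, 8, 6, 2] = true := by decide +kernel

theorem r12 : A.isS TT [8, 6, 4, 8, 6, 8, 2, 4, 6, 2, 8, 2, 4, 2] = true := by decide +kernel

theorem r13 : A.isS TT [8, 4, 8, 4, 0] = true := by decide +kernel

theorem r14 : A.isS TT [2, 0, 2, 0] = true := by decide +kernel

theorem r15 : A.isS TT [6, 0, 6, 0] = true := by decide +kernel

theorem r16 : A.isS TT [8, 2, 8, 2, 8, 2] = true := by decide +kernel

theorem r17 : A.isS TT [8, 0, 8, 0] = true := by decide +kernel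

theorem r18 : A.isS TT [4, 0, 4, 0] = true := by decide +kernel

theorem r19 : A.isS TT [10, 2, 10, 2, 10, 2] = true := by decide +kernel

theorem r20 : A.isS TT [10, 8, 10, 8, 10, 8] = true := by decide +kernel

theorem r21 : A.isS TT [10, 6, 10, 6, 10, 6] = true := by decide +kernel

theorem r22 : A.isS TT [10, 4, 10, 4, 10, 4] = true := by decide +kernel

theorem r23 : A.isS TT [8, 4, 10, 0, 10, 0, 10, 8, 4] = true := by decide +kernel

theorem r24 : A.isS TT [4, 2, 4, 2, 4, 2, 4, 2] = true := by decide +kernel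

theorem r25 : A.isS TT [0, 8, 6, 10, 2, 6, 10, 0, 10, 2, 6, 10, 2, 8] = true := by decide +kernel

theorem r26 : A.isS TT [2, 4, 2, 8, 6, 2, 10, 0, 6, 4, 10, 6, 4, 0, 10] = true := by decide +kernel

theorem r27 : A.isS TT [4, 6, 2, 8, 4, 6, 10, 0, 8, 2, 10, 8, 2, 0, 10] = true := by decide +kernel

theorem ne : band (Nat.blt 1 0 || Nat.blt 0 1) (A.entW TT [0, 10, 1, 11] 1 0 1) = true := by decide +kernel

end Cfsg.Agent.Spor.U43M
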