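import Cfsg.Agent.Spor.U43M.C0
import Cfsg.Agent.Spor.U43a.Grp

set_option autoImplicit false
set_option maxRecDepth 100000000
set_option Elab.async false

namespace Cfsg.Agent.Spor.U43M

theorem rels : AllP (fun w => A.isS TT w = true) (Ctx.sqRL 6 U43a.RL) :=
  show AllP (fun w => A.isS TT w = true) [[0, 0], [2, 2], [4, 4], [6, 6], [8, 8], [10, 10], [8, 4, 8, 6, 4, 2, 4, 6, 4, 2], [6, 4, 6, 4, 6, 4], [6, 8, 4, 8, 6, 2, 4, 6, 4, 2], [8, 6, 2, 8, 2, 6, 4, 8, 4, 2], [6, 8, 2, 6, 8, 6, 2, 8, 6, 2], [8, 6, 4, 8, 6, 8, 2, 4, 6, 2, 8, 2, 4, 2], [8, 4, 8, 4, 0], [2, 0, 2, 0], [6, 0, 6, 0], [8, 2, 8, 2, 8, 2], [8, 0, 8, 0], [4, 0, 4, 0], [10, 2, 10, 2, 10, 2], [10, 8, 10, 8, 10, 8], [10, 6, 10, 6, 10, 6], [10, 4, 10, 4, 10, 4], [8, 4, 10, 0, 10, 0, 10, 8, 4], [4, 2, 4, 2, 4, 2, 4, 2], [0, 8, 6, 10, 2, 6, 10, 0, 10, 2, 6, 10, 2, 8], [2, 4, 2, 8, 6, 2, 10, 0, 6, 4, 10, 6, 4, 0,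 10], [4, 6, 2, 8, 4, 6, 10, 0, 8, 2, 10, 8, 2, 0, 10]] from AllP.cons r1 (AllP.cons r2 (AllP.cons r3 (AllP.cons r4 (AllP.cons r5 (AllP.cons r6 (AllP.cons r7 (AllP.cons r8 (AllP.cons r9 (AllP.cons r10 (AllP.cons r11 (AllP.cons r12 (AllP.cons r13 (AllP.cons r14 (AllP.cons r15 (AllP.cons r16 (AllP.cons r17 (AllP.cons r18 (AllP.cons r19 (AllP.cons r20 (AllP.cons r21 (AllP.cons r22 (AllP.cons r23 (AllP.cons r24 (AllP.cons r25 (AllP.cons r26 (AllP.cons r27 (AllP.nil)))))))))))))))))))))))))))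

theorem iso {F : Type} [Field F] [Fintype F] (hF : Fintype.card F = 9) :
    Nonempty (U43a.P ≃* PSU 4 F 3) := by
  obtain ⟨ω, hω⟩ := exists_sqrt_neg_one (F := F) (by rw [hF]; decide)
  have hp : ((3 : ℕ) : F) = 0 := cast_eq_zero_of_card (k := 2) hF
  let X : Ctx A F (Fin 4) :=
    Ctx.two A (Equiv.refl _) (by decide +kernel) hp ω rfl (by
      rw [show dig A.B A.w 0 = 2 by decide +kernel, show dig A.B A.w 1 = 0 by decide +kernel]
      push_cast at hp ⊢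
      linear_combination hω - hp)
  have hs : X.ω ^ 3 = X.decR 256 := by
    rw [X.decR_two rfl, show dig A.B 256 0 = 0 by decide +kernel, show dig A.B 256 1 = 2 by decide +kernel]
    show ω ^ 3 = _ + _ * ω
    push_cast at hp ⊢
    linear_combination ω * hω - ω * hp
  obtain ⟨σ, hσ⟩ := Class.exists_UF (q := 3) hF
  have hc := Ctx.codA_gen gensOk (Ctx.exists_SU (X := X) hσ.eq rfl hs gensOk detOk uniOk)
  exact iso_of_simple' U43a.bound (by norm_num) U43a.cert.pres (hc.presQ (suToMat_inj 4 3) rels)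
    U43a.lbP U43a.simpleP (hc.neQ (a := 0) (b := 10) (by decide) ne)
    (card_PSU_eq (q := 3) hF (by decide +kernel))

end Cfsg.Agent.Spor.U43M
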